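import Cfsg.Agent.Lib.Spec3D4.Data

/-!
# Computations with the codes of matrices
-/

set_option autoImplicit false

namespace Cfsg.Agent.Lib.Spec3D4

open M8
open Cfsg.Agent.Lib.Compute.GF8

/-- The geometric sum. -/
noncomputable def nrmAux (z : M8) : ℕ → M8 → M8 → M8
  | 0, acc, _ => acc
  | n + 1, acc, p => M8.frc (add acc p) fun acc' => M8.frc (mul p z) fun p' => nrmAux z n acc' p'

/-- The geometric sum. -/
noncomputable def nrmC (n : ℕ) (z : M8) : M8 := nrmAux z n zero one

/-- A power. -/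
noncomputable def powC (z : M8) : ℕ → M8
  | 0 => one
  | n + 1 => M8.frc (powC z n) fun y => mul y z

/-- The products `y * C ^ e`, `e < d`, each followed by `rest`. -/
noncomputable def pcAux (rest : M8 → List M8) (C : M8) : ℕ → M8 → List M8
  | 0, _ => []
  | d + 1, y => M8.frc y rest ++ M8.frc (mul y C) (pcAux rest C d)

/-- All products `y * C₁ ^ e₁ * ⋯ * C_k ^ e_k`. -/
noncomputable def pcL : List (M8 × ℕ) → M8 → List M8
  | [], y => [y]
  | q :: r, y => pcAux (pcL r) q.1 q.2 y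

/-- A row, modulo the digits which are read. -/
def rk (x : ℕ) : ℕ := x % 16777216

/-- A key for a matrix. -/
def key (A : M8) : ℕ :=
  rk A.r0 + 16777216 * (rk A.r1 + 16777216 * (rk A.r2 + 16777216 * (rk A.r3 + 16777216 * (rk A.r4 +
    16777216 * (rk A.r5 + 16777216 * (rk A.r6 + 16777216 * rk A.r7))))))

/-- Equality of the matrices of two codes. -/
def eqC (A B : M8) : Bool := Nat.beq (key A) (key B)

/-- Distinctness of a list of numbers. -/
def nodupB : List ℕ → Bool
  | [] => true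
  | a :: l => l.all (fun b => !Nat.beq a b) && nodupB l

/-- The minor of two rows and two columns is not zero. -/
def mnr (R1 R2 j l : ℕ) : Bool :=
  !Nat.beq (Nat.xor (F8.mulN (gt R1 j) (gt R2 l)) (F8.mulN (gt R1 l) (gt R2 j))) 0

/-- The pairs of columns. -/
def colPairs : List (ℕ × ℕ) :=
  [(0,1),(0,2),(0,3),(0,4),(0,5),(0,6),(0,7),(1,2),(1,3),(1,4),(1,5),(1,6),(1,7),(2,3),(2,4),(2,5),(2,6),(2,7),
   (3,4),(3,5),(3,6),(3,7),(4,5),(4,6),(4,7),(5,6),(5,7),(6,7)]

/-- Some two by two minor is not zero. -/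
def hasMinor (A : M8) : Bool :=
  colPairs.any fun p => colPairs.any fun q => mnr (A.row p.1) (A.row p.2) q.1 q.2

/-- The test on the elements of a Sylow 2-subgroup. -/
noncomputable def leaf2 (z : M8) : Bool :=
  M8.frc (add one z) fun A => M8.frc (mul A A) fun A2 => M8.frc (mul A2 A) fun A3 => M8.frc (mul A2 A2) fun A4 =>
  M8.frc (mul A4 A3) fun A7 =>
    eqC A7 zero && (!eqC A2 zero || eqC A zero || hasMinor A) && (!eqC A4 zero || eqC A3 zero || hasMinor A3)

/-- The test on the elements of a Sylow 13-subgroup. -/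
noncomputable def leaf13 (z : M8) : Bool := eqC z one || eqC (nrmC 13 z) zero

/-- The diagonal matrix of the rank certificates. -/
def d4M : M8 := ⟨1, 8, 64, 512, 0, 0, 0, 0⟩

/-- The test on the elements of a Sylow 3-subgroup. -/
noncomputable def leaf3 (p : M8 × M8 × M8) : Bool :=
  eqC p.1 one || bif eqC (powC p.1 3) one then eqC (mul (mul p.2.1 (add one p.1)) p.2.2) d4M
    else (eqC (powC p.1 9) one && eqC (nrmC 9 p.1) zero)

/-- The Sylow 2-subgroup. -/
def pc2 : List (M8 × ℕ) :=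
  [(e20, 2), (e21, 2), (e22, 2), (e23, 2), (e24, 2), (e25, 2), (e26, 2), (e27, 2), (e28, 2), (e29, 2), (e210, 2), (e211, 2)]

/-- The Sylow 3-subgroup. -/
def pc3 : List (M8 × ℕ) := [(e30, 3), (e31, 3), (e32, 3), (e33, 3)]

/-- The Sylow 7-subgroup. -/
def pc7 : List (M8 × ℕ) := [(e7c, 7), (e7d, 7)]

/-- The Sylow 13-subgroup. -/
def pc13 : List (M8 × ℕ) := [(e13, 13)]

/-- The shape of the diagonal form of an element of a Sylow 7-subgroup with fixed vectors. -/
def Spec (D : Matrix (Cfsg.Agent.Lib.ChevIso.OmegaPlus.Ip 4) (Cfsg.Agent.Lib.ChevIso.OmegaPlus.Ip 4) F8) : Prop :=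
  (∀ a b, a ≠ b → D a b = 0) ∧ ∃ a b, a ≠ b ∧ D a a = 1 ∧ D b b = 1 ∧ (∀ k, k ≠ a → k ≠ b → D k k ≠ 1) ∧
    (∀ k l, k ≠ a → k ≠ b → l ≠ a → l ≠ b → k ≠ l → D k k ≠ D l l)

/-- All coordinates. -/
def allI : List (Cfsg.Agent.Lib.ChevIso.OmegaPlus.Ip 4) :=
  [.inl 0, .inl 1, .inl 2, .inl 3, .inr 0, .inr 1, .inr 2, .inr 3]

theorem mem_allI (a : Cfsg.Agent.Lib.ChevIso.OmegaPlus.Ip 4) : a ∈ allI := by
  rcases a with i | i <;> fin_cases i <;> simp [allI]

/-- The test for `Spec`. -/
def specB (D : Matrix (Cfsg.Agent.Lib.ChevIso.OmegaPlus.Ip 4) (Cfsg.Agent.Lib.ChevIso.OmegaPlus.Ip 4) F8) : Bool :=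
  allI.all (fun a => allI.all fun b => decide (a = b) || decide (D a b = 0)) &&
  allI.any (fun a => allI.any fun b => !decide (a = b) && decide (D a a = 1) && decide (D b b = 1) &&
    allI.all (fun k => decide (k = a) || decide (k = b) || !decide (D k k = 1)) &&
    allI.all (fun k => allI.all fun l => decide (k = a) || decide (k = b) || decide (l = a) || decide (l = b) ||
      decide (k = l) || !decide (D k k = D l l)))

theorem spec_of_specB {D : Matrix (Cfsg.Agent.Lib.ChevIso.OmegaPlus.Ip 4) (Cfsg.Agent.Lib.ChevIso.OmegaPlus.Ip 4) F8}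
    (h : specB D = true) : Spec D := by
  simp only [specB, Bool.and_eq_true, List.all_eq_true, List.any_eq_true, Bool.or_eq_true, decide_eq_true_eq,
    Bool.not_eq_true', decide_eq_false_iff_not] at h
  obtain ⟨h1, a, -, b, -, ⟨⟨⟨h2, h3⟩, h4⟩, h5⟩, h6⟩ := h
  refine ⟨fun x y hxy => ?_, a, b, h2, h3, h4, fun k hka hkb => ?_, fun k l hka hkb hla hlb hkl => ?_⟩
  · rcases h1 x (mem_allI x) y (mem_allI y) with h | h
    · exact absurd h hxy
    · exact h
  · rcases h5 k (mem_allI k) with (h | h) | h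
    · exact absurd h hka
    · exact absurd h hkb
    · exact h
  · rcases h6 k (mem_allI k) l (mem_allI l) with (((((h | h) | h) | h) | h) | h)
    · exact absurd h hka
    · exact absurd h hkb
    · exact absurd h hla
    · exact absurd h hlb
    · exact absurd h hkl
    · exact h

end Cfsg.Agent.Lib.Spec3D4
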